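import Groth.Agent.CharFG.GroupLike
import Groth.Agent.GrpSchLib.AffineHopf
import Groth.Prelude.Def_CGrpSh2

/-! # The characters of an affine group of finite type form a finitely generated group -/

set_option autoImplicit false
set_option backward.isDefEq.respectTransparency false
set_option backward.isDefEq.respectTransparency.types false

universe u

open CategoryTheory CategoryTheory.Limits AlgebraicGeometry MonObj MonoidalCategory CartesianMonoidalCategory
open Opposite TensorProduct WithConv

namespace Groth.Agent.CharFG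

open Groth.Agent.GrpSchLib.AffineHopf

variable {S : Scheme.{u}} (G H : Over S) [GrpObj G] [IsCommMonObj G] [GrpObj H] [IsCommMonObj H]

/-- The morphism underlying a map of sheaves of points. -/
noncomputable def evalId (α : CGrpSh.pts Scheme.fppfPrecoverage G ⟶ CGrpSh.pts Scheme.fppfPrecoverage H) :
    G ⟶ H :=
  Additive.toMul (ULift.down (α.hom.app (op G) (ULift.up (Additive.ofMul (𝟙 G)))))

theorem app_eq (α : CGrpSh.pts Scheme.fppfPrecoverage G ⟶ CGrpSh.pts Scheme.fppfPrecoverage H)
    (T : Over S) (x : T ⟶ G) :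
    α.hom.app (op T) (ULift.up (Additive.ofMul x)) = ULift.up (Additive.ofMul (x ≫ evalId G H α)) := by
  have h := NatTrans.naturality_apply α.hom x.op (ULift.up (Additive.ofMul (𝟙 G)))
  have h' : (CGrpSh.pts Scheme.fppfPrecoverage G).obj.map x.op (ULift.up (Additive.ofMul (𝟙 G))) =
      ULift.up (Additive.ofMul x) := by
    show ULift.up (Additive.ofMul (x ≫ 𝟙 G)) = _
    rw [Category.comp_id]
  rw [h'] at h
  exact h

instance isMonHom_evalId (α : CGrpSh.pts Scheme.fppfPrecoverage G ⟶ CGrpSh.pts Scheme.fppfPrecoverage H) :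
    IsMonHom (evalId G H α) := by
  have hadd : ∀ (T : Over S) (x y : T ⟶ G),
      (x * y) ≫ evalId G H α = (x ≫ evalId G H α) * (y ≫ evalId G H α) := by
    intro T x y
    have h := map_add (α.hom.app (op T)).hom (ULift.up (Additive.ofMul x)) (ULift.up (Additive.ofMul y))
    have h' : (ULift.up (Additive.ofMul x) + ULift.up (Additive.ofMul y) : ULift.{u+1} (Additive (T ⟶ G))) =
        ULift.up (Additive.ofMul (x * y)) := rfl
    change α.hom.app (op T) _ = α.hom.app (op T) _ + α.hom.app (op T) _ at h
    rw [h', app_eq, app_eq, app_eq] at h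
    exact congrArg (fun z => Additive.toMul (ULift.down z)) h
  refine ⟨?_, ?_⟩
  · rw [MonObj.one_eq_one, MonObj.one_eq_one]
    have := hadd (𝟙_ _) 1 1
    rw [_root_.one_mul] at this
    exact left_eq_mul.mp this
  · rw [MonObj.mul_eq_mul, hadd, MonObj.mul_eq_mul, MonObj.comp_mul]
    simp

theorem evalId_injective : Function.Injective (evalId G H) := by
  intro α β h
  refine Sheaf.hom_ext (NatTrans.ext (funext fun T => ?_))
  ext x
  obtain ⟨T, rfl⟩ : ∃ T', op T' = T := ⟨T.unop, rfl⟩
  obtain ⟨x, rfl⟩ : ∃ y : T ⟶ G, ULift.up (Additive.ofMul y) = x := ⟨Additive.toMul x.down, rfl⟩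
  rw [app_eq, app_eq, h]

theorem evalId_add (α β : CGrpSh.pts Scheme.fppfPrecoverage G ⟶ CGrpSh.pts Scheme.fppfPrecoverage H) :
    evalId G H (α + β) = evalId G H α * evalId G H β := rfl

variable {k : Type u} [Field k]

/-- The group-like element given by a bialgebra map out of the Laurent group algebra. -/
noncomputable def gl {A : Type u} [CommRing A] [HopfAlgebra k A]
    (f : MonoidAlgebra k (Multiplicative ℤ) →ₐc[k] A) : GroupLike k A where
  val := f (MonoidAlgebra.single (Multiplicative.ofAdd 1) 1)
  isGroupLikeElem_val := (MonoidAlgebra.isGroupLikeElem_single_one _).map f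

set_option maxHeartbeats 800000 in
/-- The homomorphisms of an affine group of finite type over a field into a group isomorphic to
the multiplicative group form a finitely generated group. -/
theorem hom_fg (G H : Over (Spec (CommRingCat.of k))) [GrpObj G] [IsCommMonObj G] [IsAffine G.left]
    [LocallyOfFiniteType G.hom] [GrpObj H] [IsCommMonObj H]
    (eM : Grp.mk (sp k (MonoidAlgebra k (Multiplicative ℤ))) ≅ Grp.mk H) :
    AddGroup.FG ((CGrpSh.pts Scheme.fppfPrecoverage G) ⟶ (CGrpSh.pts Scheme.fppfPrecoverage H)) := by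
  obtain ⟨A, _, _, ⟨eA⟩⟩ := exists_hopf G
  haveI : IsMonHom eA.hom.hom.hom := eA.hom.hom.isMonHom_hom
  haveI : IsMonHom eM.inv.hom.hom := eM.inv.hom.isMonHom_hom
  haveI : Algebra.FiniteType k A := by
    have hl : LocallyOfFiniteType (sp k A).hom := by
      have : IsIso eA.hom.hom.hom := inferInstanceAs (IsIso ((Grp.forget _).map eA.hom))
      haveI : IsIso eA.hom.hom.hom.left := inferInstanceAs (IsIso ((Over.forget _).map eA.hom.hom.hom))
      rw [← Over.w eA.hom.hom.hom]
      infer_instance
    have := (HasRingHomProperty.Spec_iff (P := @LocallyOfFiniteType)).mp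
      (show LocallyOfFiniteType (Spec.map (CommRingCat.ofHom (algebraMap k A))) from hl)
    exact RingHom.finiteType_algebraMap.mp this
  let γ : (G ⟶ H) → (sp k A ⟶ sp k (MonoidAlgebra k (Multiplicative ℤ))) :=
    fun g => eA.hom.hom.hom ≫ g ≫ eM.inv.hom.hom
  have hf : ∀ α : CGrpSh.pts Scheme.fppfPrecoverage G ⟶ CGrpSh.pts Scheme.fppfPrecoverage H,
      ∃ f : MonoidAlgebra k (Multiplicative ℤ) →ₐc[k] A, γ (evalId _ _ α) = spMap (f : _ →ₐ[k] A) :=
    fun α => exists_bialgHom _
  choose f hf using hf
  let t : Multiplicative ℤ := Multiplicative.ofAdd 1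
  let Φ : (CGrpSh.pts Scheme.fppfPrecoverage G ⟶ CGrpSh.pts Scheme.fppfPrecoverage H) →+
      Additive (GroupLike k A) :=
    AddMonoidHom.mk' (fun α => Additive.ofMul (gl (f α))) fun α β => by
      have h1 : γ (evalId _ _ (α + β)) = γ (evalId _ _ α) * γ (evalId _ _ β) := by
        simp only [γ, evalId_add, MonObj.mul_comp, MonObj.comp_mul]
      rw [hf, hf, hf, spMap_mul] at h1
      have h2 := DFunLike.congr_fun (spMap_injective h1) (MonoidAlgebra.single t 1)
      rw [← ofMul_mul]
      refine congrArg Additive.ofMul (GroupLike.ext ?_)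
      refine h2.trans ?_
      exact MonoidAlgebra.convMul_algHom_single_one _ _ t
  have hΦ : Function.Injective Φ := by
    intro α β h
    apply evalId_injective
    have h1 : f α (MonoidAlgebra.single t 1) = f β (MonoidAlgebra.single t 1) :=
      congrArg (fun z => (Additive.toMul z).val) h
    have h2 : (f α : MonoidAlgebra k (Multiplicative ℤ) →ₐ[k] A) = f β := by
      have h3 : ((f α : MonoidAlgebra k (Multiplicative ℤ) →ₐ[k] A) : MonoidAlgebra k (Multiplicative ℤ) →* A).comp
          (MonoidAlgebra.of k (Multiplicative ℤ)) =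
          ((f β : MonoidAlgebra k (Multiplicative ℤ) →ₐ[k] A) : MonoidAlgebra k (Multiplicative ℤ) →* A).comp
          (MonoidAlgebra.of k (Multiplicative ℤ)) := MonoidHom.ext_mint h1
      exact MonoidAlgebra.algHom_ext (fun m => DFunLike.congr_fun h3 m) (by ext)
    have h4 : γ (evalId _ _ α) = γ (evalId _ _ β) := by rw [hf, hf, h2]
    haveI : IsIso eA.hom.hom.hom := inferInstanceAs (IsIso ((Grp.forget _).map eA.hom))
    haveI : IsIso eM.inv.hom.hom := inferInstanceAs (IsIso ((Grp.forget _).map eM.inv))
    exact (cancel_mono eM.inv.hom.hom).mp ((cancel_epi eA.hom.hom.hom).mp h4)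
  haveI := groupLike_fg (k := k) (A := A)
  haveI : AddGroup.FG (Additive (GroupLike k A)) := GroupFG.iff_add_fg.mp ‹_›
  haveI : Module.Finite ℤ (Additive (GroupLike k A)) := Module.Finite.iff_addGroup_fg.mpr ‹_›
  exact Module.Finite.iff_addGroup_fg.mp
    (Module.Finite.of_injective Φ.toIntLinearMap hΦ)

/-- The characters of an affine group of finite type over a field form a finitely generated group. -/
theorem characters_fg (G : Over (Spec (CommRingCat.of k))) [GrpObj G] [IsCommMonObj G] [IsAffine G.left]
    [LocallyOfFiniteType G.hom] :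
    AddGroup.FG ((CGrpSh.pts Scheme.fppfPrecoverage G) ⟶
      (CGrpSh2.Gm Scheme.fppfPrecoverage (Spec (CommRingCat.of k)))) :=
  hom_fg G (Red.Gm (Spec (CommRingCat.of k))) (nonempty_DS_iso k ℤ).some

end Groth.Agent.CharFG
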