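import Groth.Agent.S0607
import Mathlib.RingTheory.HopfAlgebra.GroupLike
import Mathlib.RingTheory.HopfAlgebra.MonoidAlgebra
import Mathlib.RingTheory.Bialgebra.MonoidAlgebra
import Mathlib.RingTheory.FiniteType
import Mathlib.GroupTheory.Finiteness

/-! # The group-like elements of a finitely generated Hopf algebra form a finitely generated group -/

set_option autoImplicit false

universe u

open MonoidAlgebra

namespace Groth.Agent.CharFG

variable {k : Type u} [Field k] {A : Type u} [CommRing A] [HopfAlgebra k A]

theorem liftGroupLike_injective :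
    Function.Injective (MonoidAlgebra.liftGroupLikeBialgHom (R := k) (A := A)) := by
  intro x y h
  have hl : LinearIndependent k (GroupLike.val (R := k) (A := A)) := linearIndep_groupLikeVal
  have he : ∀ z : MonoidAlgebra k (GroupLike k A),
      MonoidAlgebra.liftGroupLikeBialgHom z = Finsupp.linearCombination k GroupLike.val z.coeff := by
    intro z
    induction z using MonoidAlgebra.induction_linear with
    | zero => simp
    | add z w hz hw => simp [hz, hw, map_add]
    | single g r => simp [Algebra.smul_def]
  rw [he, he] at h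
  exact MonoidAlgebra.coeff_injective (hl.finsuppLinearCombination_injective h)

theorem groupLike_fg [Algebra.FiniteType k A] : Group.FG (GroupLike k A) := by
  classical
  haveI : IsNoetherianRing A := Algebra.FiniteType.isNoetherianRing k A
  let J : Set (GroupLike k A) → Ideal A := fun F => Ideal.span ((fun g => g.val - 1) '' F)
  obtain ⟨_, ⟨F, hF, rfl⟩, hmax⟩ := WellFounded.has_min (wellFounded_gt (α := Ideal A))
    {I | ∃ F : Finset (GroupLike k A), True ∧ J F = I} ⟨_, ∅, trivial, rfl⟩
  refine ⟨F, eq_top_iff.mpr fun χ _ => ?_⟩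
  let F' := Subgroup.closure ((F : Set (GroupLike k A)) ∪ {χ})
  let F₀ : Subgroup F' := (Subgroup.closure (F : Set (GroupLike k A))).comap F'.subtype
  haveI : Group.FG F' := Group.closure_finite_fg _
  let ι : MonoidAlgebra k F' →ₐc[k] A :=
    (MonoidAlgebra.liftGroupLikeBialgHom (R := k) (A := A)).comp (mapDomainBialgHom k F'.subtype)
  have hι : Function.Injective ι :=
    liftGroupLike_injective.comp (MonoidAlgebra.mapDomain_injective Subtype.val_injective)
  have hιs : ∀ g : F', ι (single g 1) = (g : GroupLike k A).val := fun g => by simp [ι]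
  have hff := Groth.Agent.S0607.result ι hι
  letI := (ι : MonoidAlgebra k F' →+* A).toAlgebra
  haveI : Module.FaithfullyFlat (MonoidAlgebra k F') A := hff
  let I : Ideal (MonoidAlgebra k F') :=
    Ideal.span ((fun g : F' => single g (1 : k) - 1) '' {g | (g : GroupLike k A) ∈ F})
  have hmem : (⟨χ, Subgroup.subset_closure (Or.inr rfl)⟩ : F') ∈ F₀ := by
    have h1 : χ.val - 1 ∈ J F := by
      by_contra hc
      refine hmax (J ↑(insert χ F)) ⟨insert χ F, trivial, rfl⟩ ?_
      refine lt_of_le_of_ne (Ideal.span_mono (Set.image_mono (by simp))) fun heq => hc ?_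
      rw [heq]
      exact Ideal.subset_span ⟨χ, by simp, rfl⟩
    have h2 : single (⟨χ, Subgroup.subset_closure (Or.inr rfl)⟩ : F') (1 : k) - 1 ∈ I := by
      rw [← Ideal.comap_map_eq_self_of_faithfullyFlat (B := A) I, Ideal.mem_comap]
      show ι _ ∈ I.map (ι : MonoidAlgebra k F' →+* A)
      rw [map_sub, map_one, hιs]
      have hI : J F ≤ I.map (ι : MonoidAlgebra k F' →+* A) := by
        rw [Ideal.span_le]
        rintro _ ⟨g, hg, rfl⟩
        have hgF : g ∈ F' := Subgroup.subset_closure (Or.inl hg)
        rw [SetLike.mem_coe]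
        have := Ideal.mem_map_of_mem (ι : MonoidAlgebra k F' →+* A)
          (Ideal.subset_span ⟨⟨g, hgF⟩, hg, rfl⟩ : single (⟨g, hgF⟩ : F') (1 : k) - 1 ∈ I)
        change ι _ ∈ _ at this
        rwa [map_sub, map_one, hιs] at this
      exact hI h1
    let q := MonoidAlgebra.mapDomainBialgHom k (QuotientGroup.mk' F₀)
    have hq : I ≤ RingHom.ker (q : MonoidAlgebra k F' →+* MonoidAlgebra k (F' ⧸ F₀)) := by
      rw [Ideal.span_le]
      rintro _ ⟨g, hg, rfl⟩
      rw [SetLike.mem_coe, RingHom.mem_ker, map_sub, map_one]
      show q (single g 1) - 1 = 0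
      have hg0 : g ∈ F₀ := Subgroup.subset_closure hg
      rw [sub_eq_zero, mapDomainBialgHom_single, QuotientGroup.mk'_apply,
        (QuotientGroup.eq_one_iff g).mpr hg0]
      rfl
    have h3 := hq h2
    rw [RingHom.mem_ker, map_sub, map_one, sub_eq_zero] at h3
    change q (single _ 1) = 1 at h3
    rw [mapDomainBialgHom_single, MonoidAlgebra.one_def] at h3
    exact (QuotientGroup.eq_one_iff _).mp (MonoidAlgebra.single_left_injective one_ne_zero h3)
  exact hmem

end Groth.Agent.CharFG
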